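import Groth.Agent.QC70.Devissage
import Groth.Agent.QC70.CohOps
import Groth.Agent.EGA73.Invertible
import Groth.Prelude.Def_Curv2
import Mathlib.AlgebraicGeometry.QuasiAffine

/-!
A scheme on which all quasi-coherent modules are globally generated is quasi-affine.
-/

set_option autoImplicit false
set_option linter.unusedSectionVars false
set_option linter.style.haveILetI false
set_option backward.isDefEq.respectTransparency.types false

noncomputable section

universe u

open CategoryTheory CategoryTheory.Limits AlgebraicGeometry TopologicalSpace Opposite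

namespace Groth.Agent.ResQA46

open QC70

variable {X : Scheme.{u}}

theorem mem_smul_top_of_mem (J : X.IdealSheafData) (W : X.affineOpens) (a : Γ(X, W.1))
    (ha : a ∈ J.ideal W) :
    (a : Γ(Coh.structureModule X, W.1)) ∈
      J.ideal W • (⊤ : Submodule Γ(X, W.1) Γ(Coh.structureModule X, W.1)) := by
  have key : ∀ e : Γ(Coh.structureModule X, W.1), a • e ∈
      J.ideal W • (⊤ : Submodule Γ(X, W.1) Γ(Coh.structureModule X, W.1)) := fun e =>
    Submodule.smul_mem_smul ha trivial
  refine (congrArg (fun v : Γ(Coh.structureModule X, W.1) => v ∈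
    J.ideal W • (⊤ : Submodule Γ(X, W.1) Γ(Coh.structureModule X, W.1))) ?_).mp (key (1 : Γ(X, W.1)))
  exact mul_one a

theorem exists_basicOpen_mem (h : ∀ M : X.Modules, Coh.IsQCoh M → Curv2.IsGloballyGenerated M)
    (x : X) : ∃ r : Γ(X, ⊤), IsAffineOpen (X.basicOpen r) ∧ x ∈ X.basicOpen r := by
  obtain ⟨_, ⟨V, hV, rfl⟩, hxV, -⟩ :=
    X.isBasis_affineOpens.exists_subset_of_mem_open (Set.mem_univ x) isOpen_univ
  let Z : Closeds X := ⟨(V : Set X)ᶜ, V.2.isClosed_compl⟩
  let I := Scheme.IdealSheafData.vanishingIdeal Z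
  let O := Coh.structureModule X
  haveI : O.IsQuasicoherent := isQuasicoherent_unit
  haveI hIq := isQuasicoherent_idealMul I O
  obtain ⟨σ, p, hp⟩ := h ((Dual3.idealMul I).obj O) hIq
  let ι := Dual3.idealMulι I O
  let s : σ → Γ(X, ⊤) := fun k => (SheafOfModules.ιFree k ≫ p ≫ ι : O ⟶ O).app ⊤ (1 : Γ(X, ⊤))
  have hsI : ∀ k, ∀ z ∈ (Z : Set X), z ∉ X.basicOpen (s k) := by
    intro k z hz hzs
    obtain ⟨_, ⟨W, hW, rfl⟩, hzW, -⟩ :=
      X.isBasis_affineOpens.exists_subset_of_mem_open (Set.mem_univ z) isOpen_univ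
    let t : Γ(X, W) := X.presheaf.map (homOfLE (le_top : W ≤ ⊤)).op (s k)
    have ht : t ∈ I.ideal ⟨W, hW⟩ := by
      have hc : ∃ c, ι.app W c = (t : Γ(O, W)) := ⟨_, app_res ι le_top _⟩
      have h1 := (mem_idealMul_iff I O ⟨W, hW⟩ _).1 hc
      refine Submodule.smul_induction_on h1 (fun a ha y _ => Ideal.mul_mem_right _ _ ha)
        (fun a b ha hb => Ideal.add_mem _ ha hb)
    have hzsupp : z ∈ I.support := by
      rw [← SetLike.mem_coe, Scheme.IdealSheafData.coe_support_vanishingIdeal]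
      exact hz
    have h2 := (Scheme.IdealSheafData.mem_support_iff_of_mem (U := ⟨W, hW⟩) hzW).1 hzsupp
    rw [Scheme.mem_zeroLocus_iff] at h2
    refine h2 t ht ?_
    rw [Scheme.basicOpen_res]
    exact ⟨hzW, hzs⟩
  obtain ⟨k, hk⟩ : ∃ k, x ∈ X.basicOpen (s k) := by
    by_contra hne
    push Not at hne
    let T : Closeds X := ⟨closure {x}, isClosed_closure⟩
    let J := Scheme.IdealSheafData.vanishingIdeal T
    let π : O ⟶ (quotSC J O).X₃ := (quotSC J O).g
    have hJs : ∀ k (W : X.affineOpens), X.presheaf.map (homOfLE (le_top : W.1 ≤ ⊤)).op (s k) ∈ J.ideal W := by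
      intro k W
      have hle : Scheme.IdealSheafData.ofIdealTop (Ideal.span {s k}) ≤ J := by
        refine Scheme.IdealSheafData.le_support_iff_le_vanishingIdeal.1 ?_
        rw [← SetLike.coe_subset_coe, Scheme.IdealSheafData.coe_support_ofIdealTop]
        refine closure_minimal (Set.singleton_subset_iff.2 ?_) (Scheme.zeroLocus_isClosed _ _)
        rw [Scheme.zeroLocus_span, Scheme.mem_zeroLocus_iff]
        rintro f rfl
        exact hne k
      refine hle W ?_
      rw [Scheme.IdealSheafData.ofIdealTop_ideal]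
      exact Ideal.mem_map_of_mem _ (Ideal.mem_span_singleton_self _)
    have hzero : p ≫ ι ≫ π = 0 := by
      refine Cofan.IsColimit.hom_ext (SheafOfModules.isColimitFreeCofan _) _ _ fun k => ?_
      change SheafOfModules.ιFree k ≫ p ≫ ι ≫ π = SheafOfModules.ιFree k ≫ 0
      rw [comp_zero]
      refine Scheme.Modules.hom_ext _ _ fun W => ConcreteCategory.hom_ext _ _ fun (c : Γ(X, W)) => ?_
      let φ : O ⟶ (quotSC J O).X₃ := SheafOfModules.ιFree k ≫ p ≫ ι ≫ π
      have h1 : φ.app ⊤ (1 : Γ(X, ⊤)) = 0 := by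
        refine section_ext _ _ _ fun q _ => ?_
        obtain ⟨_, ⟨W', hW', rfl⟩, hqW, -⟩ :=
          X.isBasis_affineOpens.exists_subset_of_mem_open (Set.mem_univ q) isOpen_univ
        refine ⟨W', le_top, hqW, ?_⟩
        rw [res_zero, show φ.app ⊤ (1 : Γ(X, ⊤)) = π.app ⊤ (s k : Γ(O, ⊤)) from rfl, ← app_res]
        obtain ⟨d, hd⟩ := (mem_idealMul_iff J O ⟨W', hW'⟩ _).2
          (mem_smul_top_of_mem J ⟨W', hW'⟩ _ (hJs k ⟨W', hW'⟩))
        exact (congrArg (π.app W') hd.symm).trans (app_f_g (quotSC J O) _ d)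
      have h2 : φ.app W ((1 : Γ(X, W)) : Γ(O, W)) = 0 := by
        rw [show ((1 : Γ(X, W)) : Γ(O, W)) = res O (le_top : W ≤ ⊤) (1 : Γ(X, ⊤)) from
          (map_one (X.presheaf.map (homOfLE (le_top : W ≤ ⊤)).op).hom).symm, app_res, h1, res_zero]
      have h3 := Scheme.Modules.Hom.app_smul φ (U := W) c ((1 : Γ(X, W)) : Γ(O, W))
      rw [h2, smul_zero] at h3
      exact (congrArg (φ.app W) (mul_one c)).symm.trans h3
    have hιπ : ι ≫ π = 0 := by
      exact hp.left_cancellation _ _ (hzero.trans comp_zero.symm)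
    have hxZ : x ∉ (I.support : Set X) := by
      rw [Scheme.IdealSheafData.coe_support_vanishingIdeal]
      exact fun hx => hx hxV
    have hI1 : I.ideal ⟨V, hV⟩ = ⊤ := by
      rw [Ideal.eq_top_iff_one]
      have hempty : (I.support : Set X) ∩ V = ∅ := by
        rw [Scheme.IdealSheafData.coe_support_vanishingIdeal]
        exact Set.compl_inter_self _
      replace hempty := (Scheme.IdealSheafData.coe_support_inter I ⟨V, hV⟩).symm.trans hempty
      have : I.ideal ⟨V, hV⟩ = ⊤ := by
        by_contra hne'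
        obtain ⟨m, hm, hle⟩ := Ideal.exists_le_maximal _ hne'
        have hmem : hV.fromSpec ⟨m, hm.isPrime⟩ ∈ X.zeroLocus (U := V) (I.ideal ⟨V, hV⟩) ∩ V := by
          rw [← hV.fromSpec_image_zeroLocus]
          exact ⟨_, hle, rfl⟩
        rw [hempty] at hmem
        exact hmem
      rw [this]
      trivial
    obtain ⟨c, hc⟩ := (mem_idealMul_iff I O ⟨V, hV⟩ ((1 : Γ(X, V)) : Γ(O, V))).2 (by
      rw [hI1, Submodule.top_smul]
      trivial)
    have hπ1 : π.app V ((1 : Γ(X, V)) : Γ(O, V)) = 0 :=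
      (congrArg (π.app V) hc.symm).trans
        ((congrArg (fun g : (Dual3.idealMul I).obj O ⟶ (quotSC J O).X₃ => g.app V c) hιπ :))
    haveI := (quotSC_shortExact J O).mono_f
    obtain ⟨d, hd⟩ := exists_app_eq_of_exact (quotSC J O) (quotSC_shortExact J O).exact V _ hπ1
    have h1J := (mem_idealMul_iff J O ⟨V, hV⟩ _).1 ⟨d, hd⟩
    have h1 : (1 : Γ(X, V)) ∈ J.ideal ⟨V, hV⟩ :=
      Submodule.smul_induction_on h1J (fun a ha y _ => Ideal.mul_mem_right _ _ ha)
        (fun a b ha hb => Ideal.add_mem _ ha hb)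
    have hxJ : x ∈ J.support := by
      rw [← SetLike.mem_coe, Scheme.IdealSheafData.coe_support_vanishingIdeal]
      exact subset_closure rfl
    have h4 := (Scheme.IdealSheafData.mem_support_iff_of_mem (U := ⟨V, hV⟩) hxV).1 hxJ
    rw [Scheme.mem_zeroLocus_iff] at h4
    refine h4 1 h1 ?_
    rw [Scheme.basicOpen_of_isUnit X isUnit_one]
    exact hxV
  refine ⟨s k, ?_, hk⟩
  have hle : X.basicOpen (s k) ≤ V := fun z hz => by
    by_contra hzV
    exact hsI k z hzV hz
  have e : X.basicOpen (X.presheaf.map (homOfLE (le_top : V ≤ ⊤)).op (s k)) = X.basicOpen (s k) := by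
    rw [Scheme.basicOpen_res, inf_eq_right.2 hle]
  exact e ▸ hV.basicOpen _

end Groth.Agent.ResQA46
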